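import Cfsg.Agent.Lib.Linear.RegUnip.Factor

/-!
# Every nonscalar unimodular matrix is a product of two regular unipotent matrices
-/

set_option autoImplicit false

namespace Cfsg.Agent.RegUnip

open Module

variable {K : Type*} [Field K] {n : ℕ}

/-- `M` is conjugate to the regular Jordan block. -/
def IsConjJ (M : Matrix (Fin n) (Fin n) K) : Prop :=
  ∃ P : Matrix (Fin n) (Fin n) K, IsUnit P.det ∧
    M * P = P * Matrix.of (fun i j : Fin n => if i = j then 1 else if j.val = i.val + 1 then 1 else 0)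

theorem regUpper_isConjJ {U : Matrix (Fin n) (Fin n) K} (hU : RegUpper U) : IsConjJ U := by
  classical
  rcases Nat.eq_zero_or_pos n with hn | hn
  · subst hn
    exact ⟨1, by simp, by ext i; exact i.elim0⟩
  obtain ⟨m, rfl⟩ : ∃ m, n = m + 1 := ⟨n - 1, by omega⟩
  obtain ⟨⟨hd, hz⟩, hs⟩ := hU
  set N := U - 1
  have hN : ∀ i j : Fin (m + 1), j ≤ i → N i j = 0 := fun i j hji => by
    rcases eq_or_lt_of_le hji with rfl | h
    · simp [N, hd]
    · simp [N, hz i j h, Matrix.one_apply_ne (ne_of_gt h)]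
  let p : ℕ → Fin (m + 1) → K := fun k => (fun v => N.mulVec v)^[k] (Pi.single (Fin.last m) 1)
  have hp : ∀ k, p (k + 1) = N.mulVec (p k) := fun k => Function.iterate_succ_apply' _ _ _
  have key : ∀ k, (∀ i : Fin (m + 1), m < i.val + k → p k i = 0) ∧
      ∀ i : Fin (m + 1), i.val + k = m → p k i ≠ 0 := by
    intro k
    induction k with
    | zero =>
      refine ⟨fun i hi => absurd hi (by omega), fun i hi => ?_⟩
      have : i = Fin.last m := Fin.ext (by simpa using hi)
      simp [p, this]
    | succ k ih =>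
      refine ⟨fun i hi => ?_, fun i hi => ?_⟩
      · rw [hp, Matrix.mulVec, dotProduct]
        refine Finset.sum_eq_zero fun j _ => ?_
        by_cases hji : j ≤ i
        · rw [hN i j hji, zero_mul]
        · rw [ih.1 j (by have : i.val < j.val := not_le.1 hji; omega), mul_zero]
      · rw [hp, Matrix.mulVec, dotProduct]
        let j₀ : Fin (m + 1) := ⟨i.val + 1, by omega⟩
        rw [Finset.sum_eq_single j₀ (fun j _ hj => ?_) (by simp)]
        · refine mul_ne_zero ?_ (ih.2 j₀ (by simp [j₀]; omega))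
          have h1 := hs i j₀ rfl
          have h2 : i ≠ j₀ := fun e => by have := congrArg Fin.val e; simp [j₀] at this
          simpa [N, Matrix.one_apply_ne h2] using h1
        · by_cases hji : j ≤ i
          · rw [hN i j hji, zero_mul]
          · rw [ih.1 j (by
              have h1 : i.val < j.val := not_le.1 hji
              have h2 : j.val ≠ i.val + 1 := fun e => hj (Fin.ext e)
              omega), mul_zero]
  let P : Matrix (Fin (m + 1)) (Fin (m + 1)) K := Matrix.of fun i j => p (m - j.val) i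
  have hPtri : ∀ i j : Fin (m + 1), j < i → P i j = 0 := fun i j hij =>
    (key _).1 i (by have : j.val < i.val := hij; omega)
  refine ⟨P, ?_, ?_⟩
  · rw [isUnit_iff_ne_zero, Matrix.det_of_upperTriangular (fun i j h => hPtri i j h)]
    exact Finset.prod_ne_zero_iff.2 fun i _ => (key _).2 i (by omega)
  · ext i j
    have hU' : U = N + 1 := by simp [N]
    rw [hU', add_mul, one_mul, Matrix.add_apply]
    have h1 : (N * P) i j = p (m - j.val + 1) i := by
      rw [hp]; rfl
    rw [h1, Matrix.mul_apply]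
    by_cases hj : j.val = 0
    · rw [Finset.sum_eq_single j (fun k _ hk => by simp [hk, show ¬ j.val = k.val + 1 by omega]) (by simp),
        (key _).1 i (by omega)]
      simp [P]
    · let j₁ : Fin (m + 1) := ⟨j.val - 1, by omega⟩
      have hne : j₁ ≠ j := fun e => by have := congrArg Fin.val e; simp [j₁] at this; omega
      rw [Finset.sum_eq_add j₁ j hne (fun k _ hk => by
          have h2 : ¬ j.val = k.val + 1 := fun e => hk.1 (Fin.ext (by simp [j₁]; omega))
          simp [hk.2, h2]) (by simp) (by simp)]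
      have e1 : j.val = j₁.val + 1 := by simp [j₁]; omega
      simp only [Matrix.of_apply, if_neg hne, if_pos e1, if_pos (rfl : j = j), if_true, mul_one, P,
        show m - j₁.val = m - j.val + 1 by omega]

theorem isConjJ_conj {M Q : Matrix (Fin n) (Fin n) K} (hQ : IsUnit Q.det) (h : IsConjJ M) :
    IsConjJ (Q * M * Q⁻¹) := by
  obtain ⟨P, hP, hMP⟩ := h
  exact ⟨Q * P, by rw [Matrix.det_mul]; exact hQ.mul hP, by
    rw [Matrix.mul_assoc, Matrix.nonsing_inv_mul_cancel_left _ _ hQ, Matrix.mul_assoc, hMP, ← Matrix.mul_assoc]⟩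

theorem regLower_isConjJ {L : Matrix (Fin n) (Fin n) K} (hL : RegUpper L.transpose) : IsConjJ L := by
  classical
  have hU : RegUpper (L.submatrix Fin.rev Fin.rev) := by
    obtain ⟨⟨hd, hz⟩, hs⟩ := hL
    refine ⟨⟨fun i => hd _, fun i j hij => hz _ _ (Fin.rev_lt_rev.2 hij)⟩, fun i j hij => hs _ _ ?_⟩
    simp only [Fin.val_rev]
    omega
  obtain ⟨P, hP, hMP⟩ := regUpper_isConjJ hU
  refine ⟨P.submatrix Fin.rev id, ?_, ?_⟩
  · rw [show P.submatrix Fin.rev id = P.submatrix Fin.revPerm id from rfl, Matrix.det_permute]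
    exact ((Units.isUnit _).map (Int.castRingHom K)).mul hP
  · have h := congrArg (fun X => X.submatrix Fin.rev id) hMP
    rw [← Matrix.submatrix_mul_equiv _ _ _ Fin.revPerm, ← Matrix.submatrix_mul_equiv _ _ _ (Equiv.refl _)] at h
    simpa [Matrix.submatrix_submatrix, Function.comp_def, Fin.revPerm, show L.submatrix (fun x => x) (fun x => x) = L from rfl] using h

/-- The product of unitriangular matrices adds the superdiagonals. -/
theorem upperUni_mul {A B : Matrix (Fin n) (Fin n) K} (hA : UpperUni A) (hB : UpperUni B) :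
    UpperUni (A * B) ∧ ∀ i j : Fin n, j.val = i.val + 1 → (A * B) i j = A i j + B i j := by
  refine ⟨⟨fun i => ?_, fun i j hij => ?_⟩, fun i j hij => ?_⟩
  · rw [Matrix.mul_apply, Finset.sum_eq_single i (fun k _ hk => ?_) (by simp), hA.1, hB.1, mul_one]
    rcases lt_or_gt_of_ne hk with h | h
    · rw [hA.2 i k h, zero_mul]
    · rw [hB.2 k i h, mul_zero]
  · rw [Matrix.mul_apply]
    refine Finset.sum_eq_zero fun k _ => ?_
    rcases lt_or_ge k i with h | h
    · rw [hA.2 i k h, zero_mul]
    · rw [hB.2 k j (lt_of_lt_of_le hij h), mul_zero]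
  · have hne : i ≠ j := fun e => by subst e; omega
    rw [Matrix.mul_apply, Finset.sum_eq_add i j hne (fun k _ hk => ?_) (by simp) (by simp), hA.1, hB.1, one_mul, mul_one,
      add_comm]
    rcases lt_or_ge k i with h | h
    · rw [hA.2 i k h, zero_mul]
    · have h1 : i.val < k.val := lt_of_le_of_ne h (fun e => hk.1 (Fin.ext e.symm))
      have h2 : k.val ≠ j.val := fun e => hk.2 (Fin.ext e)
      rw [hB.2 k j (show j.val < k.val by omega), mul_zero]

theorem upperUni_inv {A : Matrix (Fin n) (Fin n) K} (hA : UpperUni A) : UpperUni A⁻¹ := by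
  have hdet : IsUnit A.det := by rw [det_upperUni hA]; exact isUnit_one
  let inst := Matrix.invertibleOfIsUnitDet A hdet
  have htri : A⁻¹.BlockTriangular id := Matrix.blockTriangular_inv_of_blockTriangular (fun i j h => hA.2 i j h)
  refine ⟨fun i => ?_, fun i j h => htri h⟩
  have h1 : (A * A⁻¹) i i = 1 := by rw [Matrix.mul_nonsing_inv _ hdet, Matrix.one_apply_eq]
  rwa [Matrix.mul_apply, Finset.sum_eq_single i (fun k _ hk => ?_) (by simp), hA.1, one_mul] at h1
  rcases lt_or_gt_of_ne hk with h | h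
  · rw [hA.2 i k h, zero_mul]
  · rw [htri h, mul_zero]

/-- An upper unitriangular matrix is a product of two regular ones. -/
theorem upperUni_product (hK : 4 ≤ Cardinal.mk K) {G : Matrix (Fin n) (Fin n) K} (hG : UpperUni G) :
    ∃ A B, RegUpper A ∧ RegUpper B ∧ G = A * B := by
  classical
  have h := fun i j : Fin n => exists_ne3 hK (0 : K) (G i j) 0
  choose a ha ha' _ using h
  let A : Matrix (Fin n) (Fin n) K :=
    Matrix.of fun i j => if i = j then 1 else if j.val = i.val + 1 then a i j else 0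
  have hA : RegUpper A := by
    refine ⟨⟨fun i => by simp [A], fun i j hij => ?_⟩, fun i j hij => ?_⟩
    · have h1 : j.val < i.val := hij
      simp [A, (ne_of_gt hij : i ≠ j), show ¬ j.val = i.val + 1 by omega]
    · have hne : i ≠ j := fun e => by subst e; omega
      simpa [A, hne, hij] using ha i j
  have hdet : IsUnit A.det := by rw [det_upperUni hA.1]; exact isUnit_one
  refine ⟨A, A⁻¹ * G, hA, ⟨(upperUni_mul (upperUni_inv hA.1) hG).1, fun i j hij h0 => ?_⟩,
    (Matrix.mul_nonsing_inv_cancel_left _ _ hdet).symm⟩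
  have h2 := (upperUni_mul hA.1 (upperUni_mul (upperUni_inv hA.1) hG).1).2 i j hij
  rw [Matrix.mul_nonsing_inv_cancel_left _ _ hdet, h0, add_zero] at h2
  have hne : i ≠ j := fun e => by subst e; omega
  exact ha' i j (by simpa [A, hne, hij] using h2.symm)

/-- A basis adapted to a square-zero map. -/
theorem exists_upper_basis (T : (Fin n → K) →ₗ[K] (Fin n → K)) (hT : ∀ x, T (T x) = 0) :
    ∃ b : Basis (Fin n) K (Fin n → K), UpperUni (LinearMap.toMatrix b b (1 + T)) := by
  classical
  obtain ⟨C, hC⟩ := Submodule.exists_isCompl (LinearMap.ker T)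
  have hd : finrank K (LinearMap.ker T) + finrank K C = n := by
    rw [Submodule.finrank_add_eq_of_isCompl hC, Module.finrank_fin_fun]
  let b₀ : Basis (Fin (finrank K (LinearMap.ker T)) ⊕ Fin (finrank K C)) K (Fin n → K) :=
    ((Module.finBasis K (LinearMap.ker T)).prod (Module.finBasis K C)).map (Submodule.prodEquivOfIsCompl _ _ hC)
  refine ⟨b₀.reindex (finSumFinEquiv.trans (finCongr hd)), ?_⟩
  have hker : ∀ a, T (b₀ (Sum.inl a)) = 0 := fun a => by
    rw [← LinearMap.mem_ker]; simp [b₀]
  have hrange : ∀ x a, b₀.repr (T x) (Sum.inr a) = 0 := fun x a => by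
    have hm : T x ∈ LinearMap.ker T := LinearMap.mem_ker.2 (hT x)
    have := Submodule.prodEquivOfIsCompl_symm_apply_left (h := hC) (x := (⟨T x, hm⟩ : ↥(LinearMap.ker T)))
    dsimp only at this
    simp [b₀, this]
  set e := finSumFinEquiv.trans (finCongr hd)
  have hzero : ∀ i j : Fin n, j ≤ i → LinearMap.toMatrix (b₀.reindex e) (b₀.reindex e) T i j = 0 := by
    intro i j hji
    rw [LinearMap.toMatrix_apply, Basis.reindex_apply, Basis.repr_reindex_apply]
    rcases hj : e.symm j with a | a
    · rw [hker, map_zero]; rfl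
    · rcases hi : e.symm i with a' | a'
      · exfalso
        have h1 := congrArg e hj
        have h2 := congrArg e hi
        rw [Equiv.apply_symm_apply] at h1 h2
        subst h1 h2
        simp [e, Fin.le_def] at hji
        omega
      · exact hrange _ _
  refine ⟨fun i => ?_, fun i j hij => ?_⟩
  · rw [map_add, LinearMap.toMatrix_one, Matrix.add_apply, hzero i i le_rfl, Matrix.one_apply_eq, add_zero]
  · rw [map_add, LinearMap.toMatrix_one, Matrix.add_apply, hzero i j hij.le, Matrix.one_apply_ne (ne_of_gt hij),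
      add_zero]

/-- The main statement on matrices. -/
theorem product_of_two (hK : 4 ≤ Cardinal.mk K) (hn : 1 ≤ n) (g : Matrix (Fin n) (Fin n) K)
    (hg : ¬ ∃ c : K, g = c • (1 : Matrix (Fin n) (Fin n) K)) (hdet : g.det = 1) :
    ∃ A B, IsConjJ A ∧ IsConjJ B ∧ g = A * B := by
  classical
  set T := Matrix.toLin' g - 1
  have hg' : Matrix.toLin' g = 1 + T := by simp [T]
  obtain ⟨b, A, B, hA, hB, hAB⟩ : ∃ (b : Basis (Fin n) K (Fin n → K)) (A B : Matrix (Fin n) (Fin n) K),
      IsConjJ A ∧ IsConjJ B ∧ LinearMap.toMatrix b b (1 + T) = A * B := by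
    by_cases h2 : ∀ x, T (T x) = 0
    · obtain ⟨b, hb⟩ := exists_upper_basis T h2
      obtain ⟨A, B, hA, hB, hAB⟩ := upperUni_product hK hb
      exact ⟨b, A, B, regUpper_isConjJ hA, regUpper_isConjJ hB, hAB⟩
    · push Not at h2
      obtain ⟨m, rfl⟩ : ∃ m, n = m + 1 := ⟨n - 1, by omega⟩
      have hd : finrank K (Fin (m + 1) → K) = m + 1 := Module.finrank_fin_fun K
      have hdetT : LinearMap.det (1 + T) = 1 := by rw [← hg', LinearMap.det_toLin', hdet]
      have hns : ∀ γ : K, ∃ x, T x ≠ γ • x := by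
        intro γ
        by_contra hh
        push Not at hh
        refine hg ⟨1 + γ, Matrix.toLin'.injective (LinearMap.ext fun x => ?_)⟩
        rw [hg', map_smul, Matrix.toLin'_one]
        simp [hh x, add_smul]
      obtain ⟨b, L, U, hL, hU, hLU, -⟩ := factors hK m hd T hdetT (fun _ => ⟨h2, hns⟩) (Pi.single 0 1)
        (LinearMap.proj 0) (by simp) (fun h => by simpa using LinearMap.congr_fun h (Pi.single 0 1))
      exact ⟨b, L, U, regLower_isConjJ hL, regUpper_isConjJ hU, hLU⟩
  set S := LinearMap.toMatrix b (Pi.basisFun K (Fin n)) LinearMap.id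
  set S' := LinearMap.toMatrix (Pi.basisFun K (Fin n)) b LinearMap.id
  have hSS : S * S' = 1 := by rw [← LinearMap.toMatrix_comp, LinearMap.id_comp, LinearMap.toMatrix_id]
  have hS : IsUnit S.det := Matrix.isUnit_det_of_right_inverse hSS
  have hS' : S⁻¹ = S' := Matrix.inv_eq_right_inv hSS
  have hg2 : g = S * (A * B) * S' := by
    rw [← hAB, ← LinearMap.toMatrix_comp, ← LinearMap.toMatrix_comp, LinearMap.id_comp, LinearMap.comp_id,
      ← hg', LinearMap.toMatrix_eq_toMatrix', LinearMap.toMatrix'_toLin']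
  refine ⟨S * A * S⁻¹, S * B * S⁻¹, isConjJ_conj hS hA, isConjJ_conj hS hB, ?_⟩
  rw [hg2, hS']
  simp only [← Matrix.mul_assoc]
  rw [Matrix.mul_assoc (S * A) S' S, mul_eq_one_comm.1 hSS, Matrix.mul_one]

/-- The statement for invertible matrices. -/
theorem result (hK : 4 ≤ Cardinal.mk K) (hn : 1 ≤ n) (J g : GL (Fin n) K)
    (hJ : ∀ i j : Fin n, (J : Matrix (Fin n) (Fin n) K) i j = if i = j then 1 else if j.val = i.val + 1 then 1 else 0)
    (hg : ¬ ∃ c : K, (g : Matrix (Fin n) (Fin n) K) = c • (1 : Matrix (Fin n) (Fin n) K))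
    (hdet : (g : Matrix (Fin n) (Fin n) K).det = 1) :
    ∃ x y : GL (Fin n) K, g = (x * J * x⁻¹) * (y * J * y⁻¹) := by
  obtain ⟨A, B, ⟨P, hP, hAP⟩, ⟨Q, hQ, hBQ⟩, hAB⟩ := product_of_two hK hn _ hg hdet
  have hJ' : (J : Matrix (Fin n) (Fin n) K) =
      Matrix.of (fun i j : Fin n => if i = j then 1 else if j.val = i.val + 1 then 1 else 0) := by
    ext i j; exact hJ i j
  refine ⟨Matrix.nonsingInvUnit P hP, Matrix.nonsingInvUnit Q hQ, Units.ext ?_⟩
  simp only [Units.val_mul, Matrix.coe_units_inv]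
  change (g : Matrix (Fin n) (Fin n) K) = P * J * P⁻¹ * (Q * J * Q⁻¹)
  rw [hJ', ← hAP, ← hBQ, Matrix.mul_nonsing_inv_cancel_right _ _ hP, Matrix.mul_nonsing_inv_cancel_right _ _ hQ, hAB]

end Cfsg.Agent.RegUnip
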