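import Mathlib

/-!
# Avoidance lemmas over a field with at least four elements
-/

set_option autoImplicit false

namespace Cfsg.Agent.RegUnip

variable {K : Type*} [Field K]

theorem exists_ne3 (hK : 4 ≤ Cardinal.mk K) (a b c : K) : ∃ t : K, t ≠ a ∧ t ≠ b ∧ t ≠ c := by
  classical
  by_contra h
  push Not at h
  have huniv : ∀ t : K, t ∈ ({a, b, c} : Finset K) := fun t => by
    simp only [Finset.mem_insert, Finset.mem_singleton]
    by_cases h1 : t = a
    · exact Or.inl h1
    by_cases h2 : t = b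
    · exact Or.inr (Or.inl h2)
    exact Or.inr (Or.inr (h t h1 h2))
  have : Fintype K := ⟨{a, b, c}, huniv⟩
  rw [Cardinal.mk_fintype] at hK
  have h4 : 4 ≤ Fintype.card K := by exact_mod_cast hK
  have hc : Fintype.card K ≤ 3 := (Finset.card_le_card (fun t _ => huniv t : Finset.univ ⊆ ({a, b, c} : Finset K))).trans
    Finset.card_le_three
  omega

theorem exists_finset (hK : 4 ≤ Cardinal.mk K) : ∃ S : Finset K, S.card = 4 ∧ (0 : K) ∈ S := by
  classical
  obtain ⟨a, ha, -, -⟩ := exists_ne3 hK 0 0 0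
  obtain ⟨b, hb, hb', -⟩ := exists_ne3 hK 0 a 0
  obtain ⟨c, hc, hc', hc''⟩ := exists_ne3 hK 0 a b
  exact ⟨{0, a, b, c}, by simp [Ne.symm ha, Ne.symm hb, Ne.symm hb', Ne.symm hc, Ne.symm hc', Ne.symm hc''],
    Finset.mem_insert_self _ _⟩

variable {V : Type*} [AddCommGroup V] [Module K V]

/-- A space is not the union of at most four proper subspaces. -/
theorem exists_avoid (hK : 4 ≤ Cardinal.mk K) :
    ∀ (L : List (Submodule K V)), L.length ≤ 4 → (∀ A ∈ L, A ≠ ⊤) → ∃ v : V, ∀ A ∈ L, v ∉ A
  | [], _, _ => ⟨0, by simp⟩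
  | A :: L, hl, hA => by
    classical
    simp only [List.length_cons] at hl
    obtain ⟨v, hv⟩ := exists_avoid hK L (by omega) fun B hB => hA B (List.mem_cons_of_mem _ hB)
    by_cases hvA : v ∈ A
    swap
    · exact ⟨v, List.forall_mem_cons.2 ⟨hvA, hv⟩⟩
    obtain ⟨u, hu⟩ : ∃ u, u ∉ A := by
      by_contra h
      push Not at h
      exact hA A List.mem_cons_self (Submodule.eq_top_iff'.2 h)
    by_cases huL : ∀ B ∈ L, u ∉ B
    · exact ⟨u, List.forall_mem_cons.2 ⟨hu, huL⟩⟩
    push Not at huL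
    obtain ⟨B₀, hB₀, huB₀⟩ := huL
    -- each other subspace excludes one `s`
    have hex : ∀ B : Submodule K V, ∃ s₀ : K, v ∉ B → ∀ s : K, v + s • u ∈ B → s = s₀ := fun B => by
      by_cases h : ∃ s₀ : K, v + s₀ • u ∈ B
      · obtain ⟨s₀, hs₀⟩ := h
        refine ⟨s₀, fun hvB s hs => ?_⟩
        by_contra hne
        have h1 : (s - s₀) • u ∈ B := by
          have : (s - s₀) • u = (v + s • u) - (v + s₀ • u) := by module
          rw [this]; exact sub_mem hs hs₀
        have h2 := (Submodule.smul_mem_iff _ (sub_ne_zero.2 hne)).1 h1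
        exact hvB (by simpa using sub_mem hs₀ (B.smul_mem s₀ h2))
      · exact ⟨0, fun _ s hs => absurd ⟨s, hs⟩ h⟩
    choose f hf using hex
    let L' := L.erase B₀
    have hlen : L'.length ≤ 2 := by
      rw [List.length_erase_of_mem hB₀]; omega
    obtain ⟨s, hs0, hsf⟩ : ∃ s : K, s ≠ 0 ∧ ∀ B ∈ L', s ≠ f B := by
      match hL : L', hlen with
      | [], _ =>
        obtain ⟨t, ht, -, -⟩ := exists_ne3 hK 0 0 0
        exact ⟨t, ht, by simp⟩
      | [B], _ =>
        obtain ⟨t, ht, ht', -⟩ := exists_ne3 hK 0 (f B) 0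
        exact ⟨t, ht, by simp [ht']⟩
      | [B, C], _ =>
        obtain ⟨t, ht, ht', ht''⟩ := exists_ne3 hK 0 (f B) (f C)
        exact ⟨t, ht, by simp [ht', ht'']⟩
    refine ⟨v + s • u, List.forall_mem_cons.2 ⟨fun h => ?_, fun B hB h => ?_⟩⟩
    · exact hu ((Submodule.smul_mem_iff _ hs0).1 (by simpa using sub_mem h hvA))
    · by_cases hBB : B = B₀
      · subst hBB
        exact hv B hB (by simpa using sub_mem h (B.smul_mem s huB₀))
      · exact hsf B ((List.mem_erase_of_ne hBB).2 hB) (hf B (hv B hB) s h)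

/-- A functional with prescribed values on an independent family. -/
theorem exists_functional {k : ℕ} {f : Fin k → V} (hf : LinearIndependent K f) (x : Fin k → K) :
    ∃ φ : V →ₗ[K] K, ∀ i, φ (f i) = x i := by
  obtain ⟨φ, hφ⟩ := LinearMap.exists_extend ((Finsupp.linearCombination K x).comp hf.repr)
  refine ⟨φ, fun i => ?_⟩
  have := LinearMap.congr_fun hφ ⟨f i, Submodule.subset_span ⟨i, rfl⟩⟩
  simp only [LinearMap.comp_apply, Submodule.subtype_apply] at this
  rw [this, hf.repr_eq_single i _ rfl]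
  simp

theorem li_cons {k : ℕ} {f : Fin k → V} (hf : LinearIndependent K f) {z : V}
    (hz : z ∉ Submodule.span K (Set.range f)) : LinearIndependent K (Fin.cons z f : Fin (k + 1) → V) :=
  linearIndependent_finCons.2 ⟨hf, hz⟩

/-- combinations of an independent triple by an invertible matrix are independent -/
theorem li_mul {f : Fin 3 → V} (hf : LinearIndependent K f) (A : Matrix (Fin 3) (Fin 3) K) (hA : A.det ≠ 0)
    {g : Fin 3 → V} (hg : ∀ i, g i = ∑ j, A i j • f j) : LinearIndependent K g := by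
  rw [Fintype.linearIndependent_iff]
  intro x hx
  have h : ∑ j, (Matrix.vecMul x A) j • f j = 0 := by
    rw [← hx]
    simp only [hg, Finset.smul_sum, smul_smul, Matrix.vecMul, dotProduct, Finset.sum_smul]
    exact Finset.sum_comm
  have hz : Matrix.vecMul x A = 0 := funext (Fintype.linearIndependent_iff.1 hf _ h)
  intro i
  rw [Matrix.eq_zero_of_vecMul_eq_zero hA hz]
  rfl

open Polynomial in
/-- A determinant of a pencil is nonzero somewhere. -/
theorem exists_det_ne (A B : Matrix (Fin 3) (Fin 3) K) (S : Finset K)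
    (h : (A.det ≠ 0 ∧ 3 < S.card) ∨ (A.det = 0 ∧ B.det ≠ 0 ∧ 2 < S.card)) :
    ∃ s ∈ S, (s • A + B).det ≠ 0 := by
  classical
  set P : K[X] := Matrix.det ((X : K[X]) • A.map C + B.map C)
  have hdeg : P.natDegree ≤ 3 := by
    simpa using Polynomial.natDegree_det_X_add_C_le A B
  have h3 : P.coeff 3 = A.det := by
    simpa using Polynomial.coeff_det_X_add_C_card A B
  have h0 : P.coeff 0 = B.det := Polynomial.coeff_det_X_add_C_zero A B
  have heval : ∀ s, P.eval s = (s • A + B).det := fun s => by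
    rw [← Polynomial.coe_evalRingHom, RingHom.map_det]
    congr 1
    ext i j
    simp [RingHom.mapMatrix_apply]; ring
  by_contra hall
  push Not at hall
  have hroot : ∀ s ∈ S, P.eval s = 0 := fun s hs => by rw [heval]; exact hall s hs
  rcases h with ⟨hA, hS⟩ | ⟨hA, hB, hS⟩
  · have hP : P = 0 := P.eq_zero_of_natDegree_lt_card_of_eval_eq_zero' S hroot (by omega)
    exact hA (by rw [← h3, hP]; simp)
  · have hdeg' : P.natDegree ≤ 2 := Polynomial.natDegree_le_iff_coeff_eq_zero.2 fun n hn => by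
      rcases Nat.lt_or_ge 3 n with h' | h'
      · exact Polynomial.coeff_eq_zero_of_natDegree_lt (by omega)
      · rw [show n = 3 by omega, h3, hA]
    have hP : P = 0 := P.eq_zero_of_natDegree_lt_card_of_eval_eq_zero' S hroot (by omega)
    exact hB (by rw [← h0, hP]; simp)

end Cfsg.Agent.RegUnip
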