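import Cfsg.Agent.Lib.Linear.RegUnip.Quad

/-!
# Lower times upper factorisation with regular unipotent factors
-/

set_option autoImplicit false

namespace Cfsg.Agent.RegUnip

open Module

variable {K : Type*} [Field K] {V : Type*} [AddCommGroup V] [Module K V]

/-- upper unitriangular -/
def UpperUni {n : ℕ} (M : Matrix (Fin n) (Fin n) K) : Prop :=
  (∀ i, M i i = 1) ∧ ∀ i j : Fin n, j < i → M i j = 0

/-- upper unitriangular with nonzero superdiagonal -/
def RegUpper {n : ℕ} (M : Matrix (Fin n) (Fin n) K) : Prop :=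
  UpperUni M ∧ ∀ i j : Fin n, j.val = i.val + 1 → M i j ≠ 0

section Block

variable {n : ℕ}

/-- the bordered lower factor -/
def consLower (w : Fin n → K) (L : Matrix (Fin n) (Fin n) K) : Matrix (Fin (n + 1)) (Fin (n + 1)) K :=
  Matrix.of fun i j => (Fin.cases (Fin.cases (1 : K) (fun _ => 0)) (fun i => Fin.cases (w i) (L i)) i :
    Fin (n + 1) → K) j

/-- the bordered upper factor -/
def consUpper (R : Fin n → K) (U : Matrix (Fin n) (Fin n) K) : Matrix (Fin (n + 1)) (Fin (n + 1)) K :=
  Matrix.of fun i j => (Fin.cases (Fin.cases (1 : K) R) (fun i => Fin.cases (0 : K) (U i)) i :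
    Fin (n + 1) → K) j

theorem consLower_transpose (w : Fin n → K) (L : Matrix (Fin n) (Fin n) K) :
    (consLower w L).transpose = consUpper w L.transpose := by
  ext i j
  induction i using Fin.cases <;> induction j using Fin.cases <;> rfl

theorem consLower_mul_consUpper (w R : Fin n → K) (L U : Matrix (Fin n) (Fin n) K) (i j : Fin n) :
    (consLower w L * consUpper R U) 0 0 = 1 ∧ (consLower w L * consUpper R U) 0 j.succ = R j ∧
      (consLower w L * consUpper R U) i.succ 0 = w i ∧
      (consLower w L * consUpper R U) i.succ j.succ = w i * R j + (L * U) i j := by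
  refine ⟨?_, ?_, ?_, ?_⟩ <;>
    simp [Matrix.mul_apply, Fin.sum_univ_succ, consLower, consUpper]

theorem consUpper_upperUni (R : Fin n → K) {U : Matrix (Fin n) (Fin n) K} (hU : UpperUni U) :
    UpperUni (consUpper R U) := by
  refine ⟨fun i => ?_, fun i j hij => ?_⟩
  · induction i using Fin.cases with
    | zero => rfl
    | succ i => exact hU.1 i
  · induction i using Fin.cases with
    | zero => exact absurd hij (Fin.not_lt_zero _)
    | succ i =>
      induction j using Fin.cases with
      | zero => rfl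
      | succ j => exact hU.2 i j (Fin.succ_lt_succ_iff.1 hij)

theorem consUpper_regUpper {R : Fin n → K} {U : Matrix (Fin n) (Fin n) K} (hU : RegUpper U)
    (hR : ∀ i : Fin n, i.val = 0 → R i ≠ 0) : RegUpper (consUpper R U) := by
  refine ⟨consUpper_upperUni R hU.1, fun i j hij => ?_⟩
  induction j using Fin.cases with
  | zero => simp at hij
  | succ j =>
    induction i using Fin.cases with
    | zero => exact hR j (by simpa using hij)
    | succ i => exact hU.2 i j (by simpa using hij)

theorem det_upperUni {U : Matrix (Fin n) (Fin n) K} (hU : UpperUni U) : U.det = 1 := by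
  rw [Matrix.det_of_upperTriangular (fun i j hij => hU.2 i j hij)]
  exact Finset.prod_eq_one fun i _ => hU.1 i

theorem det_block (w R : Fin n → K) (X : Matrix (Fin n) (Fin n) K) :
    (consLower w 1 * consUpper R X).det = X.det := by
  have h1 : (consLower w (1 : Matrix (Fin n) (Fin n) K)).det = 1 := by
    rw [← Matrix.det_transpose, consLower_transpose, Matrix.transpose_one]
    exact det_upperUni (consUpper_upperUni w ⟨fun i => Matrix.one_apply_eq i,
      fun i j h => Matrix.one_apply_ne (ne_of_gt h)⟩)
  have h2 : (consUpper R X).det = X.det := by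
    rw [Matrix.det_succ_column_zero, Fin.sum_univ_succ]
    simp [consUpper, Matrix.submatrix]
    rfl
  rw [Matrix.det_mul, h1, h2, one_mul]

end Block

variable [FiniteDimensional K V]

/-- the output of the factorisation -/
def Factors (T : V →ₗ[K] V) (c : V) (r : V →ₗ[K] K) (n : ℕ) : Prop :=
  ∃ (b : Basis (Fin n) K V) (L U : Matrix (Fin n) (Fin n) K),
    RegUpper L.transpose ∧ RegUpper U ∧ LinearMap.toMatrix b b (1 + T) = L * U ∧
      ∀ i : Fin n, i.val = 0 → b.repr c i ≠ 0 ∧ r (b i) ≠ 0

theorem factors_one (hd : finrank K V = 1) (T : V →ₗ[K] V) (hdet : LinearMap.det (1 + T) = 1) {c : V} (hc : c ≠ 0)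
    {r : V →ₗ[K] K} (hr : r ≠ 0) : Factors T c r 1 := by
  let b := Module.finBasisOfFinrankEq K V hd
  refine ⟨b, 1, 1, ?_, ?_, ?_, fun i _ => ⟨fun h => hc ?_, fun h => hr ?_⟩⟩
  · rw [Matrix.transpose_one]
    exact ⟨⟨fun i => Matrix.one_apply_eq i, fun i j h => Matrix.one_apply_ne (ne_of_gt h)⟩, fun i j h => by omega⟩
  · exact ⟨⟨fun i => Matrix.one_apply_eq i, fun i j h => Matrix.one_apply_ne (ne_of_gt h)⟩, fun i j h => by omega⟩
  · ext i j
    obtain rfl : i = 0 := Subsingleton.elim _ _
    obtain rfl : j = 0 := Subsingleton.elim _ _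
    rw [← LinearMap.det_toMatrix b, Matrix.det_fin_one] at hdet
    simpa using hdet
  · rw [← b.repr.map_eq_zero_iff]
    refine Finsupp.ext fun k => ?_
    rw [Subsingleton.elim k i]
    exact h
  · refine b.ext fun k => ?_
    rw [Subsingleton.elim k i]
    exact h

/-- Lower times upper factorisation with regular factors. -/
theorem factors (hK : 4 ≤ Cardinal.mk K) : ∀ (n : ℕ) {V : Type*} [AddCommGroup V] [Module K V]
    [FiniteDimensional K V], finrank K V = n + 1 → ∀ T : V →ₗ[K] V, LinearMap.det (1 + T) = 1 →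
      (2 ≤ n + 1 → (∃ x, T (T x) ≠ 0) ∧ ∀ γ : K, ∃ x, T x ≠ γ • x) →
      ∀ (c : V) (r : V →ₗ[K] K), c ≠ 0 → r ≠ 0 → Factors T c r (n + 1)
  | 0, V, _, _, _, hd, T, hdet, _, c, r, hc, hr => factors_one hd T hdet hc hr
  | n + 1, V, _, _, _, hd, T, hdet, hinv, c, r, hc, hr => by
    classical
    obtain ⟨hT2, hns⟩ := hinv (by omega)
    obtain ⟨v, φ, hφv, hφw, hrv, hφc, hw0, ⟨z₀, hz₀, hz₀'⟩, hnext⟩ :=
      exists_pivot hK T (by omega) hdet hT2 hns hc hr
    set W := LinearMap.ker φ
    have hφ0 : φ ≠ 0 := fun e => one_ne_zero (hφv.symm.trans (by rw [e]; rfl))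
    have hW : finrank K W = n + 1 := by
      have := Module.Dual.finrank_ker_add_one_of_ne_zero (f := φ) hφ0
      change finrank K W + 1 = _ at this
      omega
    have hstep : ∀ z, φ (step T v φ z) = 0 := fun z => by
      rw [step_apply, map_sub, map_smul, map_add, hφv, hφw]; simp
    let T' : W →ₗ[K] W := ((step T v φ).comp W.subtype).codRestrict W fun z => LinearMap.mem_ker.2 (hstep z.1)
    have hT' : ∀ z : W, (T' z : V) = step T v φ z := fun z => rfl
    let wW : W := ⟨T v, hφw⟩
    let R : W →ₗ[K] K := (φ ∘ₗ T).comp W.subtype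
    have mkb : ∀ b' : Basis (Fin (n + 1)) K W, ∃ b : Basis (Fin (n + 2)) K V,
        b 0 = v ∧ (∀ j, b j.succ = (b' j : V)) ∧
        (∀ x i, b.repr x (Fin.succ i) = b'.repr ⟨x - φ x • v, by simp [W, hφv]⟩ i) ∧
        (∀ x, b.repr x 0 = φ x) ∧
        ∀ L U : Matrix (Fin (n + 1)) (Fin (n + 1)) K, LinearMap.toMatrix b' b' (1 + T') = L * U →
          ∀ wc, (∀ i, wc i = b'.repr wW i) → ∀ Rr, (∀ j, Rr j = R (b' j)) →
          LinearMap.toMatrix b b (1 + T) = consLower wc L * consUpper Rr U := by
      intro b'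
      let b := Basis.mkFinCons v b' (fun a x hx h => by
        have := congrArg φ h
        rw [map_add, map_smul, hφv, LinearMap.mem_ker.1 hx] at this
        simpa using this) (fun z => ⟨-φ z, LinearMap.mem_ker.2 (by simp [hφv])⟩)
      have hb0 : b 0 = v := by simp [b]
      have hbs : ∀ j, b j.succ = (b' j : V) := fun j => by simp [b]
      have hrepr : ∀ (t : K) (z : W), b.repr (t • v + (z : V)) = Finsupp.cons t (b'.repr z) := by
        intro t z
        have : t • v + (z : V) = t • b 0 + ∑ j, b'.repr z j • b j.succ := by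
          rw [hb0]
          congr 1
          conv_lhs => rw [← b'.sum_repr z]
          simp only [hbs, Submodule.coe_sum, Submodule.coe_smul]
        rw [this]
        ext i
        rw [map_add, map_smul, map_sum]
        induction i using Fin.cases with
        | zero => simp [Finsupp.cons_zero, Fin.succ_ne_zero]
        | succ i =>
          simp [Finsupp.cons_succ, Finsupp.single_apply, Fin.succ_inj, (Fin.succ_ne_zero i).symm]
      have hrx : ∀ x, b.repr x = Finsupp.cons (φ x) (b'.repr ⟨x - φ x • v, by simp [W, hφv]⟩) := fun x => by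
        rw [← hrepr]; congr 1; simp
      refine ⟨b, hb0, hbs, fun x i => by rw [hrx, Finsupp.cons_succ], fun x => by rw [hrx, Finsupp.cons_zero],
        fun L U hLU wc hwc Rr hRr => ?_⟩
      have hcol0 : b.repr ((1 + T) (b 0)) = Finsupp.cons 1 (b'.repr wW) := by
        rw [hb0, ← hrepr]; congr 1; simp [wW]
      have hcol : ∀ j, b.repr ((1 + T) (b j.succ)) =
          Finsupp.cons (R (b' j)) (b'.repr ((1 + T') (b' j) + R (b' j) • wW)) := fun j => by
        rw [← hrepr]; congr 1
        simp [hbs, R, wW, hT', step_apply]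
        module
      ext i j
      rw [LinearMap.toMatrix_apply]
      induction i using Fin.cases with
      | zero =>
        induction j using Fin.cases with
        | zero => rw [hcol0, Finsupp.cons_zero]; exact ((consLower_mul_consUpper wc Rr L U 0 0).1).symm
        | succ j =>
          rw [hcol, Finsupp.cons_zero, (consLower_mul_consUpper wc Rr L U 0 j).2.1, hRr]
      | succ i =>
        induction j using Fin.cases with
        | zero => rw [hcol0, Finsupp.cons_succ, (consLower_mul_consUpper wc Rr L U i 0).2.2.1, hwc]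
        | succ j =>
          rw [hcol, Finsupp.cons_succ, (consLower_mul_consUpper wc Rr L U i j).2.2.2, map_add, map_smul,
            Finsupp.add_apply, Finsupp.smul_apply, ← hLU, LinearMap.toMatrix_apply, hwc, hRr, smul_eq_mul]
          ring
    have hdet' : LinearMap.det (1 + T') = 1 := by
      let b'' := Module.finBasisOfFinrankEq K W hW
      obtain ⟨b, -, -, -, -, hb⟩ := mkb b''
      rw [← LinearMap.det_toMatrix b, hb 1 (LinearMap.toMatrix b'' b'' (1 + T')) (one_mul _).symm _
        (fun i => rfl) _ (fun j => rfl), det_block] at hdet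
      rwa [← LinearMap.det_toMatrix b'']
    obtain ⟨b', L, U, hL, hU, hLU, hfirst⟩ := factors hK n hW T' hdet' (fun h2 => by
      obtain ⟨⟨z, hz, hz'⟩, hns'⟩ := hnext (by omega)
      refine ⟨⟨⟨z, hz⟩, fun h => hz' (congrArg Subtype.val h)⟩, fun γ => ?_⟩
      obtain ⟨z, hz, hz'⟩ := hns' γ
      exact ⟨⟨z, hz⟩, fun h => hz' (congrArg Subtype.val h)⟩) wW R
      (fun h => hw0 (congrArg Subtype.val h)) (fun h => hz₀' (LinearMap.congr_fun h ⟨z₀, hz₀⟩))
    obtain ⟨b, hb0, -, -, hbr, hb⟩ := mkb b'
    refine ⟨b, _, _, ?_, consUpper_regUpper hU (fun i hi => (hfirst i hi).2),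
      hb L U hLU _ (fun i => rfl) _ (fun j => rfl), fun i hi => ?_⟩
    · rw [consLower_transpose]
      exact consUpper_regUpper hL (fun i hi => (hfirst i hi).1)
    · obtain rfl : i = 0 := Fin.ext hi
      rw [hbr, hb0]
      exact ⟨hφc, hrv⟩

end Cfsg.Agent.RegUnip
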