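import Cfsg.Agent.Lib.Linear.RegUnip.Step

/-!
# The pivot when there is no cyclic vector with a three-dimensional span
-/

set_option autoImplicit false

namespace Cfsg.Agent.RegUnip

open Module

variable {K : Type*} [Field K] {V : Type*} [AddCommGroup V] [Module K V]
variable (hK : 4 ≤ Cardinal.mk K) (T : V →ₗ[K] V)

theorem range2 (a b : V) : Set.range ![a, b] = {a, b} := by
  ext x; simp [Fin.exists_fin_succ, eq_comm, or_comm]

theorem mem_pair_of_not_cyc {x : V} (hx : LinearIndependent K ![x, T x]) (h : ¬ Cyc T x) :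
    ∃ a b : K, T (T x) = a • x + b • T x := by
  by_contra hn
  push Not at hn
  refine h (li3' hx fun hm => ?_)
  obtain ⟨a, b, hab⟩ := Submodule.mem_span_pair.1 hm
  exact hn a b hab.symm

/-- Without a cyclic vector of span three, `T` is quadratic. -/
theorem quadratic_of_not_cyc (hK : 4 ≤ Cardinal.mk K) (hns : ∀ γ : K, ∃ x, T x ≠ γ • x)
    (h : ∀ v, ¬ Cyc T v) : ∃ α β : K, ∀ x, T (T x) = α • T x + β • x := by
  classical
  obtain ⟨v₀, hv₀⟩ : ∃ v₀, LinearIndependent K ![v₀, T v₀] := by
    by_contra hn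
    push Not at hn
    obtain ⟨γ, hγ⟩ := LinearMap.exists_eq_smul_id_of_forall_notLinearIndependent hn
    obtain ⟨x, hx⟩ := hns γ
    exact hx (by rw [hγ]; rfl)
  obtain ⟨β, α, hq⟩ := mem_pair_of_not_cyc T hv₀ (h v₀)
  refine ⟨α, β, ?_⟩
  let D : V → V := fun x => T (T x) - α • T x - β • x
  have hDadd : ∀ x y, D (x + y) = D x + D y := fun x y => by simp only [D, map_add]; module
  have hDsmul : ∀ (s : K) x, D (s • x) = s • D x := fun s x => by simp only [D, map_smul]; module
  set P := Submodule.span K ({v₀, T v₀} : Set V)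
  have hP : ∀ y ∈ P, T y ∈ P ∧ D y = 0 := by
    intro y hy
    obtain ⟨s, t, rfl⟩ := Submodule.mem_span_pair.1 hy
    refine ⟨Submodule.mem_span_pair.2 ⟨t * β, s + t * α, by rw [map_add, map_smul, map_smul, hq]; module⟩, ?_⟩
    simp only [D, map_add, map_smul, hq]; module
  -- `D` takes its values in the plane
  have hmem : ∀ x, D x ∈ P := by
    intro x
    by_contra hz
    have h3 : LinearIndependent K ![v₀, T v₀, D x] := li3' hv₀ hz
    obtain ⟨ψ, hψ⟩ : ∃ ψ : Fin 3 → V →ₗ[K] K, ∀ i j, ψ j (![v₀, T v₀, D x] i) = if i = j then 1 else 0 :=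
      ⟨fun j => (exists_functional h3 fun i => if i = j then 1 else 0).choose,
        fun i j => (exists_functional h3 fun i => if i = j then 1 else 0).choose_spec i⟩
    let M : V → V → V → K := fun a b c =>
      (Matrix.of fun i j => ψ j (![a, b, c] i) : Matrix (Fin 3) (Fin 3) K).det
    have dep : ∀ a b c, ¬ LinearIndependent K ![a, b, c] → M a b c = 0 := by
      intro a b c habc
      rw [Fintype.linearIndependent_iff] at habc
      push Not at habc
      obtain ⟨g, hg, i, hi⟩ := habc
      refine Matrix.exists_vecMul_eq_zero_iff.1 ⟨g, fun e => hi (congrFun e i), funext fun j => ?_⟩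
      have := congrArg (ψ j) hg
      simpa [Fin.sum_univ_three, Matrix.vecMul, dotProduct] using this
    obtain ⟨s, hs0, hs1, -⟩ := exists_ne3 hK 0 1 0
    have f0 : ∀ t : K, M (v₀ + t • x) (T v₀ + t • T x) (T (T v₀) + t • T (T x)) = 0 := fun t => by
      refine dep _ _ _ ?_
      have := h (v₀ + t • x)
      rwa [Cyc, map_add, map_smul, map_add, map_smul] at this
    have c3 : M x (T x) (T (T x)) = 0 := dep _ _ _ (h x)
    have hv : ∀ i j : Fin 3, ψ j (![v₀, T v₀, D x] i) = if i = j then 1 else 0 := hψ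
    have e00 := hv 0 0; have e01 := hv 0 1; have e02 := hv 0 2
    have e10 := hv 1 0; have e11 := hv 1 1; have e12 := hv 1 2
    have e22 := hv 2 2
    simp [D] at e00 e01 e02 e10 e11 e12 e22
    have f1 := f0 1
    have fs := f0 s
    simp only [M, Matrix.det_fin_three, Matrix.of_apply, Matrix.cons_val_zero, Matrix.cons_val_one,
      Matrix.cons_val, map_add, map_smul, smul_eq_mul, hq, e00, e01, e02, e10, e11, e12, one_mul,
      mul_zero, zero_mul, add_zero, zero_add, mul_one] at f1 fs c3
    have hL : (s - s * s) * (ψ 2 (T (T x)) - α * ψ 2 (T x) - β * ψ 2 x) = 0 := by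
      linear_combination fs - (s * s) * f1 - (s * s * s - s * s) * c3
    rw [e22, mul_one, sub_eq_zero] at hL
    exact hs1 (mul_left_cancel₀ hs0 (by rw [mul_one]; exact hL.symm))
  -- and in fact vanishes
  have hD0 : ∀ x, D x = 0 := by
    intro x
    by_contra hz
    have hxP : x ∉ P := fun hx => hz (hP x hx).2
    have hcond : ∀ y ∈ P, ∃ a b : K, b ≠ 0 ∧ D x = a • (x + y) + b • T (x + y) := by
      intro y hy
      have hxy : x + y ∉ P := fun hh => hxP (by simpa using sub_mem hh hy)
      have hD : D (x + y) = D x := by rw [hDadd, (hP y hy).2, add_zero]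
      have hli : LinearIndependent K ![x + y, T (x + y)] := by
        rw [LinearIndependent.pair_iff' (fun e => hxy (by rw [e]; exact zero_mem _))]
        intro γ hγ
        have h1 : D (x + y) = (γ * γ - α * γ - β) • (x + y) := by
          simp only [D]; rw [← hγ, map_smul, ← hγ]; module
        rw [hD] at h1
        refine hxy ((Submodule.smul_mem_iff _ ?_).1 (h1 ▸ hmem x))
        intro h0; exact hz (by rw [h1, h0, zero_smul])
      obtain ⟨a, b, hab⟩ := mem_pair_of_not_cyc T hli (h _)
      refine ⟨a - β, b - α, fun hb => ?_, by rw [← hD]; simp only [D]; rw [hab]; module⟩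
      have h1 : D x = (a - β) • (x + y) := by
        rw [← hD]; simp only [D]; rw [hab, sub_eq_zero.1 hb]; module
      refine hxy ((Submodule.smul_mem_iff _ ?_).1 (h1 ▸ hmem x))
      intro h0; exact hz (by rw [h1, h0, zero_smul])
    obtain ⟨a₀, b₀, hb₀, h₀⟩ := hcond 0 (zero_mem _)
    rw [add_zero] at h₀
    set ρ : K := -a₀ / b₀
    have hTx : T x = ρ • x + b₀⁻¹ • D x := by
      rw [h₀]; simp only [ρ, smul_add, smul_smul, inv_mul_cancel₀ hb₀, one_smul]; module
    have key : ∀ y ∈ P, ∃ k : K, k ≠ 0 ∧ b₀⁻¹ • D x + (T y - ρ • y) = k • D x := by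
      intro y hy
      obtain ⟨a, b, hb, hab⟩ := hcond y hy
      have h1 : (a + b * ρ) • x + (a • y + b • T y + (b * b₀⁻¹) • D x - D x) = 0 := by
        have : (a + b * ρ) • x + (a • y + b • T y + (b * b₀⁻¹) • D x) = D x := by
          conv_rhs => rw [hab]
          rw [map_add, hTx]; module
        rw [← sub_eq_zero] at this
        rw [← this]; module
      have hP' : a • y + b • T y + (b * b₀⁻¹) • D x - D x ∈ P :=
        sub_mem (add_mem (add_mem (P.smul_mem _ hy) (P.smul_mem _ (hP y hy).1)) (P.smul_mem _ (hmem x))) (hmem x)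
      have hab0 : a + b * ρ = 0 := by
        by_contra hne
        refine hxP ((Submodule.smul_mem_iff _ hne).1 ?_)
        rw [eq_neg_of_add_eq_zero_left h1]; exact neg_mem hP'
      rw [hab0, zero_smul, zero_add, sub_eq_zero] at h1
      refine ⟨b⁻¹, inv_ne_zero hb, ?_⟩
      conv_rhs => rw [← h1]
      have : a = -(b * ρ) := by linear_combination hab0
      rw [this]
      match_scalars <;> field_simp
    have hscal : ∀ y ∈ P, T y = ρ • y := by
      intro y hy
      by_contra hne
      obtain ⟨k, -, hky⟩ := key y hy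
      have hTy : T y - ρ • y = (k - b₀⁻¹) • D x := by rw [sub_smul, ← hky]; module
      have hk : k - b₀⁻¹ ≠ 0 := fun e => hne (sub_eq_zero.1 (by rw [hTy, e, zero_smul]))
      obtain ⟨k', hk', h2⟩ := key ((-b₀⁻¹ / (k - b₀⁻¹)) • y) (P.smul_mem _ hy)
      rw [map_smul, smul_comm ρ, ← smul_sub, hTy, smul_smul, div_mul_cancel₀ _ hk, ← add_smul,
        add_neg_cancel, zero_smul, eq_comm, smul_eq_zero] at h2
      exact h2.elim hk' hz
    exact (LinearIndependent.pair_iff' (hv₀.ne_zero 0)).1 hv₀ ρ
      (hscal v₀ (Submodule.subset_span (by simp))).symm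
  intro x
  have := hD0 x
  simp only [D] at this
  rw [← sub_eq_zero, ← this]; module

variable [FiniteDimensional K V]

theorem one_add_injective (hdet : LinearMap.det (1 + T) = 1) {y : V} (h : y + T y = 0) : y = 0 := by
  by_contra hy
  have : LinearMap.ker (1 + T) ≠ ⊥ := fun e => hy (by
    have hm : y ∈ LinearMap.ker (1 + T) := by simpa using h
    simpa [e] using hm)
  exact zero_ne_one ((LinearMap.det_eq_zero_iff_ker_ne_bot.2 this).symm.trans hdet)

include hK in
theorem pivot_quad (hd : 2 ≤ finrank K V) (hdet : LinearMap.det (1 + T) = 1) (hT2 : ∃ x, T (T x) ≠ 0)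
    (hns : ∀ γ : K, ∃ x, T x ≠ γ • x) {α β : K} (hq : ∀ x, T (T x) = α • T x + β • x)
    {c : V} (hc : c ≠ 0) {r : V →ₗ[K] K} (hr : r ≠ 0) : ∃ v φ, GoodPivot T c r v φ := by
  classical
  have heig : ∀ y : V, y ≠ 0 → ∀ γ : K, T y = γ • y → γ * γ - α * γ - β = 0 := fun y hy γ hγ => by
    have := hq y
    rw [hγ, map_smul, hγ] at this
    have h0 : (γ * γ - α * γ - β) • y = 0 := by rw [← sub_eq_zero] at this; rw [← this]; module
    exact (smul_eq_zero.1 h0).resolve_right hy
  obtain ⟨l₁, l₂, hl⟩ : ∃ l₁ l₂ : K, ∀ γ : K, γ * γ - α * γ - β = 0 → γ = l₁ ∨ γ = l₂ := by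
    by_cases h : ∃ γ : K, γ * γ - α * γ - β = 0
    · obtain ⟨l, hl⟩ := h
      refine ⟨l, α - l, fun γ hγ => ?_⟩
      have : (γ - l) * (γ - (α - l)) = 0 := by linear_combination hγ - hl
      rcases mul_eq_zero.1 this with h | h
      exacts [Or.inl (sub_eq_zero.1 h), Or.inr (sub_eq_zero.1 h)]
    · exact ⟨0, 0, fun γ hγ => absurd ⟨γ, hγ⟩ h⟩
  let E : K → Submodule K V := fun γ => LinearMap.ker (T - γ • LinearMap.id)
  have hEt : ∀ γ, E γ ≠ ⊤ := fun γ e => by
    obtain ⟨x, hx⟩ := hns γ
    exact hx (sub_eq_zero.1 (e ▸ Submodule.mem_top : x ∈ E γ))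
  have hrange : β = 0 → ∀ a : V, a ≠ 0 → ¬ (∀ x, T x ∈ Submodule.span K {a}) := by
    intro hβ a ha hall
    obtain ⟨x₀, hx₀⟩ := hT2
    have hw : T x₀ ≠ 0 := fun e => hx₀ (by rw [e, map_zero])
    obtain ⟨s, hs⟩ := Submodule.mem_span_singleton.1 (hall x₀)
    have hs0 : s ≠ 0 := fun e => hw (by rw [← hs, e, zero_smul])
    have hα : T (T x₀) = α • T x₀ := by rw [hq, hβ, zero_smul, add_zero]
    have hTa : T a = α • a := by
      rw [show a = s⁻¹ • T x₀ by rw [← hs, inv_smul_smul₀ hs0], map_smul, hα, smul_comm]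
    obtain ⟨f, hf⟩ := exists_functional (K := K) (f := ![a]) (linearIndependent_subsingleton_index_iff _ |>.2 (fun _ => by simpa using ha)) ![1]
    have hf1 : f a = 1 := hf 0
    have hT : (1 + T : V →ₗ[K] V) = LinearMap.transvection (f ∘ₗ T) a := by
      ext x
      obtain ⟨t, ht⟩ := Submodule.mem_span_singleton.1 (hall x)
      simp [LinearMap.transvection.apply, ← ht, hf1]
    rw [hT, LinearMap.transvection.det] at hdet
    have h0 : α = 0 := by simpa [hTa, hf1] using hdet
    exact hx₀ (by rw [hα, h0, zero_smul])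
  have hS : (Submodule.span K {c}).comap T ≠ ⊤ := by
    intro e
    have hall : ∀ x, T x ∈ Submodule.span K {c} := fun x => (e ▸ Submodule.mem_top : x ∈ (Submodule.span K {c}).comap T)
    rcases eq_or_ne β 0 with hβ | hβ
    · exact hrange hβ c hc hall
    · -- `T` would be injective
      have hinj : Function.Injective T := (injective_iff_map_eq_zero _).2 fun y hy => by
        have := hq y
        rw [hy, map_zero, smul_zero, zero_add, eq_comm, smul_eq_zero] at this
        exact this.resolve_left hβ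
      have := Submodule.finrank_mono (show LinearMap.range T ≤ Submodule.span K {c} by rintro _ ⟨x, rfl⟩; exact hall x)
      rw [LinearMap.finrank_range_of_inj hinj, finrank_span_singleton hc] at this
      omega
  obtain ⟨v, hv⟩ := exists_avoid hK [LinearMap.ker r, E l₁, E l₂, (Submodule.span K {c}).comap T]
    (by simp) (by
      simp only [List.mem_cons, List.not_mem_nil, or_false, forall_eq_or_imp, forall_eq]
      exact ⟨fun e => hr (LinearMap.ker_eq_top.1 e), hEt l₁, hEt l₂, hS⟩)
  simp only [List.mem_cons, List.not_mem_nil, or_false, forall_eq_or_imp, forall_eq, LinearMap.mem_ker,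
    Submodule.mem_comap] at hv
  obtain ⟨hrv, hv1, hv2, hv3⟩ := hv
  have hv0 : v ≠ 0 := fun e => hrv (by rw [e, map_zero])
  have hvw : LinearIndependent K ![v, T v] := (LinearIndependent.pair_iff' hv0).2 fun γ hγ => by
    rcases hl γ (heig v hv0 γ hγ.symm) with rfl | rfl
    · exact hv1 (by simp [E, hγ])
    · exact hv2 (by simp [E, hγ])
  have hcw : ∀ κ : K, c ≠ κ • T v := fun κ hκ => hv3 (Submodule.mem_span_singleton.2 ⟨κ⁻¹, by
    rw [hκ, inv_smul_smul₀ (fun e => hc (by rw [hκ, e, zero_smul]))]⟩)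
  have hw0 : T v ≠ 0 := hvw.ne_zero 1
  rcases ne_or_eq β 0 with hβ | hβ
  · -- `T` is invertible
    obtain ⟨φ, hφv, hφw, hφc⟩ : ∃ φ : V →ₗ[K] K, φ v = 1 ∧ φ (T v) = 0 ∧ φ c ≠ 0 := by
      by_cases hm : c ∈ Submodule.span K (Set.range ![v, T v])
      · obtain ⟨φ, hφ⟩ := exists_functional hvw ![1, 0]
        refine ⟨φ, hφ 0, hφ 1, ?_⟩
        rw [range2] at hm
        obtain ⟨p, q, rfl⟩ := Submodule.mem_span_pair.1 hm
        rw [map_add, map_smul, map_smul, show φ v = 1 from hφ 0, show φ (T v) = 0 from hφ 1, smul_zero,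
          add_zero, smul_eq_mul, mul_one]
        intro hp
        exact hcw q (by rw [hp, zero_smul, zero_add])
      · obtain ⟨φ, hφ⟩ := exists_functional (li_cons hvw hm) ![1, 1, 0]
        exact ⟨φ, hφ 1, hφ 2, by rw [show φ c = 1 from hφ 0]; exact one_ne_zero⟩
    have hTw : φ (T (T v)) = β := by rw [hq]; simp [hφv, hφw]
    refine ⟨v, φ, hφv, hφw, hrv, hφc, hw0, ⟨T v, hφw, by rw [hTw]; exact hβ⟩, fun h3 => ?_⟩
    obtain ⟨z, hzφ, hzP⟩ : ∃ z, φ z = 0 ∧ z ∉ Submodule.span K ({v, T v} : Set V) := by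
      obtain ⟨z, hz⟩ : ∃ z, z ∉ Submodule.span K ({v, T v} : Set V) := by
        by_contra hn
        push Not at hn
        have := finrank_span_eq_card hvw
        rw [range2, Submodule.eq_top_iff'.2 hn, finrank_top, Fintype.card_fin] at this
        omega
      refine ⟨z - φ z • v, by simp [hφv], fun hh => hz ?_⟩
      simpa using add_mem hh (Submodule.smul_mem _ (φ z) (Submodule.subset_span (show v ∈ ({v, T v} : Set V) by simp)))
    constructor
    · by_cases hab : α = β
      · refine ⟨z, hzφ, fun h => ?_⟩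
        obtain ⟨κ, hκ⟩ := step_sq h
        rw [hab] at hq
        have h1 : β • (T z + z) ∈ Submodule.span K ({v, T v} : Set V) := by
          refine Submodule.mem_span_pair.2 ⟨κ + φ (T z) * β, κ + φ (T z) * (1 + β), ?_⟩
          rw [hq z, hq v] at hκ
          rw [← sub_eq_zero] at hκ ⊢
          rw [← neg_eq_zero, ← hκ]; module
        set P := Submodule.span K ({v, T v} : Set V)
        have h2 := (Submodule.smul_mem_iff _ hβ).1 h1
        have h3' : T (T z + z) ∈ P := by
          obtain ⟨p, q, hpq⟩ := Submodule.mem_span_pair.1 h2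
          rw [← hpq, map_add, map_smul, map_smul, hq v]
          exact Submodule.mem_span_pair.2 ⟨q * β, p + q * β, by module⟩
        have hz' : z = (β + 1) • (T z + z) - T (T z + z) := by rw [map_add, hq z]; module
        exact hzP (hz' ▸ sub_mem (P.smul_mem _ h2) h3')
      · refine ⟨T v, hφw, fun h => ?_⟩
        obtain ⟨κ, hκ⟩ := step_sq h
        rw [hTw, hq (T v), hq v] at hκ
        obtain ⟨h1, h2⟩ := coeff2 hvw (x := α * β - β * β) (y := α * α - α * β) (x' := κ) (y' := κ) (by
          rw [← sub_eq_zero] at hκ ⊢; rw [← hκ]; module)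
        exact hab (sub_eq_zero.1 (mul_self_eq_zero.1 (show (α - β) * (α - β) = 0 by linear_combination h2 - h1)))
    · intro γ
      by_contra hall
      push Not at hall
      have h1 := hall (T v) hφw
      rw [step_apply, hTw, hq v] at h1
      obtain ⟨-, hγ⟩ := coeff2 hvw (x := 0) (y := α - β) (x' := 0) (y' := γ) (by
        rw [← sub_eq_zero] at h1 ⊢; rw [← h1]; module)
      have h2 := hall z hzφ
      rw [step_apply, sub_eq_iff_eq_add] at h2
      set k := φ (T z)
      have h3' := hq z
      rw [h2, map_add, map_smul, map_smul, map_add, h2, hq v] at h3'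
      have h4 : (β * (1 + γ)) • z = (k * (1 + γ)) • T v := by
        subst hγ
        rw [← sub_eq_zero] at h3' ⊢
        rw [← neg_eq_zero, ← h3']; module
      rcases eq_or_ne (1 + γ) 0 with hγ1 | hγ1
      · -- then `T + 1` kills `T - (α + 1)`
        have hβα : β = α + 1 := by linear_combination -hγ1 - hγ
        have hall' : ∀ x, T x = (α + 1) • x := fun x => sub_eq_zero.1 (one_add_injective T hdet (by
          rw [map_sub, map_smul, hq x, hβα]; module))
        obtain ⟨x, hx⟩ := hns (α + 1)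
        exact hx (hall' x)
      · exact hzP (Submodule.mem_span_pair.2 ⟨0, k / β, by
          apply smul_right_injective V (mul_ne_zero hβ hγ1)
          simp only
          rw [h4]; simp only [zero_smul, zero_add, smul_smul]; congr 1; field_simp⟩)
  · -- `T` is semisimple with eigenvalues `0` and `α`
    subst hβ
    have hq' : ∀ x, T (T x) = α • T x := fun x => by rw [hq]; simp
    have hα : α ≠ 0 := by
      obtain ⟨x, hx⟩ := hT2
      intro e; exact hx (by rw [hq', e, zero_smul])
    have h1α : 1 + α ≠ 0 := fun e => hw0 (one_add_injective T hdet (by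
      rw [hq', show α = -1 by linear_combination e]; module))
    obtain ⟨x, hx⟩ : ∃ x, T x ∉ Submodule.span K {T v} := by
      simpa using hrange rfl (T v) hw0
    have h3 : LinearIndependent K ![v, T v, T x] := li3' hvw fun hm => hx (by
      obtain ⟨p, q, hpq⟩ := Submodule.mem_span_pair.1 hm
      have h := congrArg T hpq
      rw [map_add, map_smul, map_smul, hq', hq' x, ← hpq] at h
      have : (α * p) • v = p • T v := by
        rw [← sub_eq_zero] at h ⊢; rw [← neg_eq_zero, ← h]; module
      obtain ⟨h1, -⟩ := coeff2 hvw (x := α * p) (y := 0) (x' := 0) (y' := p) (by rw [zero_smul, add_zero, zero_smul, zero_add, this])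
      rw [(mul_eq_zero.1 h1).resolve_left hα, zero_smul, zero_add] at hpq
      exact Submodule.mem_span_singleton.2 ⟨q, hpq⟩)
    obtain ⟨f, hf⟩ : ∃ f : K, ∀ p q s : K, c = p • v + q • T v + s • T x → s ≠ 0 → -p / s = f := by
      by_cases h : ∃ p q s : K, c = p • v + q • T v + s • T x
      · obtain ⟨p, q, s, hp⟩ := h
        refine ⟨-p / s, fun p' q' s' h' _ => ?_⟩
        obtain ⟨rfl, -, rfl⟩ := coeff3' h3 (h'.symm.trans hp)
        rfl
      · exact ⟨0, fun p q s h' _ => absurd ⟨p, q, s, h'⟩ h⟩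
    obtain ⟨t, ht0, htf, -⟩ := exists_ne3 hK 0 f 0
    obtain ⟨φ, hφv, hφw, hφu, hφc⟩ := exists_phi (c := c) h3 1 0 t fun p q s h hz => by
      rcases eq_or_ne s 0 with rfl | hs
      · have hp : p = 0 := by linear_combination hz
        subst hp
        exact hcw q (by rw [h]; module)
      · exact htf (by rw [← hf p q s h hs, eq_div_iff hs]; linear_combination hz)
    have hR : φ (T x - t • v) = 0 ∧ φ (T (T x - t • v)) ≠ 0 := by
      refine ⟨by simp [hφu, hφv], ?_⟩
      rw [map_sub, map_smul, hq']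
      simp [hφu, hφw, hα, ht0]
    have hTw : φ (T (T v)) = 0 := by rw [hq']; simp [hφw]
    refine ⟨v, φ, hφv, hφw, hrv, hφc, hw0, ⟨_, hR⟩, fun _ => ⟨⟨T v, hφw, fun h => ?_⟩, fun γ => ?_⟩⟩
    · obtain ⟨κ, hκ⟩ := step_sq h
      rw [hTw, hq' (T v), hq' v] at hκ
      obtain ⟨h1, h2⟩ := coeff2 hvw (x := 0) (y := α * α) (x' := κ) (y' := κ) (by
        rw [← sub_eq_zero] at hκ ⊢; rw [← hκ]; module)
      rw [← h1] at h2
      exact hα (mul_self_eq_zero.1 h2)
    · by_contra hall
      push Not at hall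
      have h1 := hall (T v) hφw
      rw [step_apply, hTw, hq' v] at h1
      obtain ⟨-, hγ⟩ := coeff2 hvw (x := 0) (y := α) (x' := 0) (y' := γ) (by
        rw [← sub_eq_zero] at h1 ⊢; rw [← h1]; module)
      subst hγ
      have h2 := congrArg T (hall _ hR.1)
      rw [step_apply] at h2
      generalize φ (T (T x - t • v)) = k at h2 hR
      have h2' := h2
      simp only [map_sub, map_add, map_smul, hq'] at h2'
      have : (k * (1 + α)) • T v = 0 := by
        rw [← sub_eq_zero] at h2'; rw [← neg_eq_zero, ← h2']; module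
      rcases smul_eq_zero.1 this with h | h
      · exact hR.2 ((mul_eq_zero.1 h).resolve_right h1α)
      · exact hw0 h

include hK in
theorem exists_pivot (hd : 2 ≤ finrank K V) (hdet : LinearMap.det (1 + T) = 1) (hT2 : ∃ x, T (T x) ≠ 0)
    (hns : ∀ γ : K, ∃ x, T x ≠ γ • x) {c : V} (hc : c ≠ 0) {r : V →ₗ[K] K} (hr : r ≠ 0) :
    ∃ v φ, GoodPivot T c r v φ := by
  by_cases h : ∃ v₀, Cyc T v₀
  · obtain ⟨v₀, hv₀⟩ := h
    obtain ⟨v, hv, hrv, hS⟩ := exists_cyc_avoid hK T hv₀ hr hc
    exact ⟨v, pivot_cyc hK T hv hc hrv hS⟩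
  · push Not at h
    obtain ⟨α, β, hq⟩ := quadratic_of_not_cyc T hK hns h
    exact pivot_quad hK T hd hdet hT2 hns hq hc hr

end Cfsg.Agent.RegUnip
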