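import Cfsg.Agent.Lib.Linear.RegUnip.Avoid

/-!
# The choice of the pivot in the lower times upper factorisation
-/

set_option autoImplicit false

namespace Cfsg.Agent.RegUnip

open Module

variable {K : Type*} [Field K] {V : Type*} [AddCommGroup V] [Module K V]

/-- The nilpotent part of the Schur complement of `1 + T` at the pivot `(v, φ)`. -/
def step (T : V →ₗ[K] V) (v : V) (φ : V →ₗ[K] K) : V →ₗ[K] V :=
  T - (φ ∘ₗ T).smulRight (v + T v)

theorem step_apply (T : V →ₗ[K] V) (v : V) (φ : V →ₗ[K] K) (z : V) :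
    step T v φ z = T z - φ (T z) • (v + T v) := rfl

theorem step_sq {T : V →ₗ[K] V} {v : V} {φ : V →ₗ[K] K} {z : V} (h : step T v φ (step T v φ z) = 0) :
    ∃ κ : K, T (T z) - φ (T z) • (T v + T (T v)) = κ • (v + T v) := by
  refine ⟨φ (T (step T v φ z)), sub_eq_zero.1 ?_⟩
  rw [← h, step_apply T v φ (step T v φ z), step_apply]
  simp only [map_sub, map_smul, map_add]

/-- What a pivot must satisfy. -/
def GoodPivot (T : V →ₗ[K] V) (c : V) (r : V →ₗ[K] K) (v : V) (φ : V →ₗ[K] K) : Prop :=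
  φ v = 1 ∧ φ (T v) = 0 ∧ r v ≠ 0 ∧ φ c ≠ 0 ∧ T v ≠ 0 ∧ (∃ z, φ z = 0 ∧ φ (T z) ≠ 0) ∧
    (3 ≤ finrank K V →
      (∃ z, φ z = 0 ∧ step T v φ (step T v φ z) ≠ 0) ∧ ∀ γ : K, ∃ z, φ z = 0 ∧ step T v φ z ≠ γ • z)

/-- `v, T v, T² v` independent. -/
def Cyc (T : V →ₗ[K] V) (v : V) : Prop := LinearIndependent K ![v, T v, T (T v)]

theorem range3 (a b c : V) : Set.range ![a, b, c] = {a, b, c} := by
  ext x; simp [Fin.exists_fin_succ, eq_comm, or_comm, or_left_comm]

theorem coeff3 {a b c : V} (h : LinearIndependent K ![a, b, c]) {x y z : K} (e : x • a + y • b + z • c = 0) :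
    x = 0 ∧ y = 0 ∧ z = 0 := by
  have h' := Fintype.linearIndependent_iff.1 h ![x, y, z] (by simpa [Fin.sum_univ_three] using e)
  exact ⟨h' 0, h' 1, h' 2⟩

theorem coeff3' {a b c : V} (h : LinearIndependent K ![a, b, c]) {x y z x' y' z' : K}
    (e : x • a + y • b + z • c = x' • a + y' • b + z' • c) : x = x' ∧ y = y' ∧ z = z' := by
  obtain ⟨h1, h2, h3⟩ := coeff3 h (x := x - x') (y := y - y') (z := z - z') (by
    rw [← sub_eq_zero] at e; rw [← e]; module)
  exact ⟨sub_eq_zero.1 h1, sub_eq_zero.1 h2, sub_eq_zero.1 h3⟩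

theorem coeff2 {a b : V} (h : LinearIndependent K ![a, b]) {x y x' y' : K}
    (e : x • a + y • b = x' • a + y' • b) : x = x' ∧ y = y' := by
  have h' := LinearIndependent.pair_iff.1 h (x - x') (y - y') (by rw [← sub_eq_zero] at e; rw [← e]; module)
  exact ⟨sub_eq_zero.1 h'.1, sub_eq_zero.1 h'.2⟩

theorem li3' {a b c : V} (h : LinearIndependent K ![a, b]) (hc : c ∉ Submodule.span K {a, b}) :
    LinearIndependent K ![a, b, c] := by
  have h' := li_cons h (z := c) (by
    rwa [show Set.range ![a, b] = ({a, b} : Set V) by ext x; simp [Fin.exists_fin_succ, eq_comm, or_comm, or_left_comm]])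
  have := h'.comp ![1, 2, 0] (by decide)
  convert this using 1
  ext i; fin_cases i <;> rfl

/-- A functional with three prescribed values, a fourth vector sent to `1` unless dependent. -/
theorem exists_phi {a b d c : V} (h : LinearIndependent K ![a, b, d]) (x y z : K)
    (hdep : ∀ p q s : K, c = p • a + q • b + s • d → p * x + q * y + s * z ≠ 0) :
    ∃ φ : V →ₗ[K] K, φ a = x ∧ φ b = y ∧ φ d = z ∧ φ c ≠ 0 := by
  by_cases hc : c ∈ Submodule.span K (Set.range ![a, b, d])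
  · obtain ⟨φ, hφ⟩ := exists_functional h ![x, y, z]
    refine ⟨φ, hφ 0, hφ 1, hφ 2, ?_⟩
    rw [range3] at hc
    obtain ⟨p, u, hu, hcu⟩ := Submodule.mem_span_insert.1 hc
    obtain ⟨q, s, rfl⟩ := Submodule.mem_span_pair.1 hu
    rw [hcu, map_add, map_add, map_smul, map_smul, map_smul, smul_eq_mul, smul_eq_mul, smul_eq_mul,
      show φ a = x from hφ 0, show φ b = y from hφ 1, show φ d = z from hφ 2, ← add_assoc]
    exact hdep p q s (by rw [hcu]; module)
  · obtain ⟨φ, hφ⟩ := exists_functional (li_cons h hc) ![1, x, y, z]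
    exact ⟨φ, hφ 1, hφ 2, hφ 3, by rw [show φ c = 1 from hφ 0]; exact one_ne_zero⟩

variable (hK : 4 ≤ Cardinal.mk K) (T : V →ₗ[K] V)

include hK in
theorem pivot_cyc {c : V} {r : V →ₗ[K] K} {v : V} (hv : Cyc T v) (hc : c ≠ 0)
    (hr : r v ≠ 0) (hS : ∀ κ : K, c ≠ κ • T v) : ∃ φ, GoodPivot T c r v φ := by
  classical
  -- the two forbidden values
  obtain ⟨e, he⟩ : ∃ e : K, ∀ x y z : K, T (T (T v)) = x • v + y • T v + z • T (T v) → z = e := by
    by_cases h : ∃ x y z : K, T (T (T v)) = x • v + y • T v + z • T (T v)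
    · obtain ⟨x, y, z, hxyz⟩ := h
      exact ⟨z, fun x' y' z' h' => (coeff3' hv (h'.symm.trans hxyz)).2.2⟩
    · exact ⟨0, fun x y z h' => absurd ⟨x, y, z, h'⟩ h⟩
  obtain ⟨f, hf⟩ : ∃ f : K, ∀ p q s : K, c = p • v + q • T v + s • T (T v) → s ≠ 0 → -p / s = f := by
    by_cases h : ∃ p q s : K, c = p • v + q • T v + s • T (T v)
    · obtain ⟨p, q, s, hp⟩ := h
      refine ⟨-p / s, fun p' q' s' h' _ => ?_⟩
      obtain ⟨rfl, -, rfl⟩ := coeff3' hv (h'.symm.trans hp)
      rfl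
    · exact ⟨0, fun p q s h' _ => absurd ⟨p, q, s, h'⟩ h⟩
  obtain ⟨t, ht0, hte, htf⟩ := exists_ne3 hK 0 e f
  obtain ⟨φ, hφv, hφw, hφu, hφc⟩ := exists_phi (c := c) hv 1 0 t fun p q s h hz => by
    rcases eq_or_ne s 0 with rfl | hs
    · have hp : p = 0 := by linear_combination hz
      subst hp
      exact hS q (by rw [h]; module)
    · exact htf (by
        rw [← hf p q s h hs, eq_div_iff hs]
        linear_combination hz)
  have hw0 : T v ≠ 0 := hv.ne_zero 1
  refine ⟨φ, hφv, hφw, hr, hφc, hw0, ⟨T v, hφw, by rw [hφu]; exact ht0⟩, fun _ => ⟨⟨T v, hφw, fun h => ?_⟩,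
    fun γ => ⟨T v, hφw, fun h => ?_⟩⟩⟩
  · obtain ⟨κ, hκ⟩ := step_sq h
    rw [hφu] at hκ
    have := he κ (κ + t) t (by rw [← sub_eq_zero] at hκ ⊢; rw [← hκ]; module)
    exact hte this
  · rw [step_apply, hφu] at h
    have := (coeff3 hv (x := -t) (y := -t - γ) (z := 1) (by rw [← sub_eq_zero] at h; rw [← h]; module)).2.2
    exact one_ne_zero this

include hK in
/-- Good vectors outside a hyperplane. -/
theorem exists_cyc_out {v₀ : V} (hv₀ : Cyc T v₀) {r : V →ₗ[K] K} (hr : r ≠ 0) :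
    ∃ v, Cyc T v ∧ r v ≠ 0 := by
  classical
  rcases ne_or_eq (r v₀) 0 with h | h
  · exact ⟨v₀, hv₀, h⟩
  obtain ⟨u, hu⟩ : ∃ u, r u ≠ 0 := by
    by_contra hc; push Not at hc; exact hr (LinearMap.ext hc)
  by_cases huc : Cyc T u
  · exact ⟨u, huc, hu⟩
  obtain ⟨ψ, hψ⟩ : ∃ ψ : Fin 3 → V →ₗ[K] K, ∀ i j, ψ j (![v₀, T v₀, T (T v₀)] i) = if i = j then 1 else 0 :=
    ⟨fun j => (exists_functional hv₀ fun i => if i = j then 1 else 0).choose,
      fun i j => (exists_functional hv₀ fun i => if i = j then 1 else 0).choose_spec i⟩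
  let B : Matrix (Fin 3) (Fin 3) K := Matrix.of fun i j => ψ j (![v₀, T v₀, T (T v₀)] i)
  let A : Matrix (Fin 3) (Fin 3) K := Matrix.of fun i j => ψ j (![u, T u, T (T u)] i)
  have hB : B = 1 := by ext i j; simp only [B, Matrix.of_apply, hψ, Matrix.one_apply]
  have dep_det : ∀ z, ¬ Cyc T z → (Matrix.of fun i j => ψ j (![z, T z, T (T z)] i) : Matrix (Fin 3) (Fin 3) K).det = 0 := by
    intro z hz
    rw [Cyc, Fintype.linearIndependent_iff] at hz
    push Not at hz
    obtain ⟨g, hg, i, hi⟩ := hz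
    refine Matrix.exists_vecMul_eq_zero_iff.1 ⟨g, fun e => hi (congrFun e i), funext fun j => ?_⟩
    have := congrArg (ψ j) hg
    simpa [Fin.sum_univ_three, Matrix.vecMul, dotProduct] using this
  obtain ⟨S, hS, hS0⟩ := exists_finset hK
  obtain ⟨s, hs, hdet⟩ := exists_det_ne A B (S.erase 0) (Or.inr ⟨dep_det u huc, by rw [hB]; simp,
    by rw [Finset.card_erase_of_mem hS0, hS]; norm_num⟩)
  refine ⟨v₀ + s • u, by_contra fun hn => hdet ?_, by simp [h, (Finset.ne_of_mem_erase hs), hu]⟩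
  rw [← dep_det _ hn]
  congr 1
  ext i j
  fin_cases i <;> simp [A, B] <;> ring

include hK in
include hK in
/-- Good vectors avoiding also the bad line. -/
theorem exists_cyc_avoid {v₀ : V} (hv₀ : Cyc T v₀) {r : V →ₗ[K] K} (hr : r ≠ 0) {c : V} (hc : c ≠ 0) :
    ∃ v, Cyc T v ∧ r v ≠ 0 ∧ ∀ κ : K, c ≠ κ • T v := by
  classical
  obtain ⟨p, hp, hrp⟩ := exists_cyc_out hK T hv₀ hr
  by_cases hS : ∀ κ : K, c ≠ κ • T p
  · exact ⟨p, hp, hrp, hS⟩
  push Not at hS
  obtain ⟨κ, hκ⟩ := hS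
  have hκ0 : κ ≠ 0 := fun h => hc (by rw [hκ, h, zero_smul])
  -- it is enough that `T v` is not on the line of `T p`
  suffices ∃ v, Cyc T v ∧ r v ≠ 0 ∧ ∀ ν : K, T v ≠ ν • T p by
    obtain ⟨v, h1, h2, h3⟩ := this
    refine ⟨v, h1, h2, fun ν hν => ?_⟩
    have hν0 : ν ≠ 0 := fun h => hc (by rw [hν, h, zero_smul])
    exact h3 (ν⁻¹ * κ) (by rw [mul_smul, ← hκ, hν, inv_smul_smul₀ hν0])
  -- the excluded value for a linear equation
  have hlin : ∀ x y t : K, x ≠ 0 → t ≠ -x / y → x + t * y ≠ 0 := fun x y t hx ht h => by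
    rcases eq_or_ne y 0 with hy | hy
    · exact hx (by rw [hy] at h; simpa using h)
    · exact ht (by rw [eq_div_iff hy]; linear_combination h)
  by_cases hy : T (T (T p)) ∈ Submodule.span K (Set.range ![p, T p, T (T p)])
  swap
  · have h4 := li_cons hp hy
    obtain ⟨σ, hσ, hσH, -⟩ := exists_ne3 hK 0 (-r p / r (T p)) 0
    refine ⟨p + σ • T p, ?_, ?_, ?_⟩
    · rw [Cyc, Fintype.linearIndependent_iff]
      intro g hg
      simp only [Fin.sum_univ_three, Matrix.cons_val_zero, Matrix.cons_val_one, Matrix.cons_val,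
        map_add, map_smul] at hg
      have h := Fintype.linearIndependent_iff.1 h4 ![g 2 * σ, g 0, g 0 * σ + g 1, g 1 * σ + g 2] (by
        simp only [Fin.sum_univ_succ, Fin.cons_zero, Fin.cons_succ, Matrix.cons_val_zero,
          Matrix.cons_val_succ, Finset.univ_eq_empty, Finset.sum_empty, add_zero]
        rw [← hg]; module)
      have h1 : g 0 = 0 := h 1
      have h2 : g 1 = 0 := by have := h 2; simp [h1] at this; exact this
      have h3 : g 2 = 0 := by have := h 3; simp [h2] at this; exact this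
      intro i; fin_cases i <;> assumption
    · rw [map_add, map_smul, smul_eq_mul]
      exact hlin _ _ _ hrp hσH
    · intro ν hν
      refine hσ (coeff3 hp (x := 0) (y := 1 - ν) (z := σ) ?_).2.2
      rw [map_add, map_smul, ← sub_eq_zero] at hν
      rw [← hν]; module
  rw [range3] at hy
  obtain ⟨a, u, hu, hau⟩ := Submodule.mem_span_insert.1 hy
  obtain ⟨b, e, hbe⟩ := Submodule.mem_span_pair.1 hu
  subst hbe
  -- `v = p + σ T p + τ T² p`
  have hTv : ∀ σ τ : K, T (p + σ • T p + τ • T (T p)) =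
      (τ * a) • p + (1 + τ * b) • T p + (σ + τ * e) • T (T p) := fun σ τ => by
    rw [map_add, map_add, map_smul, map_smul, hau]; module
  have hTTv : ∀ σ τ : K, T (T (p + σ • T p + τ • T (T p))) =
      ((σ + τ * e) * a) • p + (τ * a + (σ + τ * e) * b) • T p +
        (1 + τ * b + (σ + τ * e) * e) • T (T p) := fun σ τ => by
    rw [hTv, map_add, map_add, map_smul, map_smul, map_smul, hau]; module
  have hcyc : ∀ σ τ : K,
      (!![1, σ, τ; τ * a, 1 + τ * b, σ + τ * e;
        (σ + τ * e) * a, τ * a + (σ + τ * e) * b, 1 + τ * b + (σ + τ * e) * e]).det ≠ 0 →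
      Cyc T (p + σ • T p + τ • T (T p)) := fun σ τ h => by
    refine li_mul hp _ h fun i => ?_
    rw [Fin.sum_univ_three]
    fin_cases i
    · exact by simp
    · exact hTv σ τ
    · exact hTTv σ τ
  have hrv : ∀ σ τ : K, r (p + σ • T p + τ • T (T p)) = r p + σ * r (T p) + τ * r (T (T p)) := fun σ τ => by
    simp [map_add, map_smul]
  have hnline : ∀ σ τ : K, (τ * a ≠ 0 ∨ σ + τ * e ≠ 0) →
      ∀ ν : K, T (p + σ • T p + τ • T (T p)) ≠ ν • T p := fun σ τ h ν hν => by
    rw [hTv] at hν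
    obtain ⟨h1, -, h3⟩ := coeff3' hp (x' := 0) (y' := ν) (z' := 0) (hν.trans (by module))
    rcases h with h | h
    exacts [h h1, h h3]
  obtain ⟨S, hS4, hS0⟩ := exists_finset hK
  rcases ne_or_eq a 0 with ha | ha
  · by_cases hr1 : r (T p) = 0
    · -- a cubic in `σ` for a fixed `τ`
      obtain ⟨τ, hτ0, hτH, -⟩ := exists_ne3 hK 0 (-r p / r (T (T p))) 0
      let A : Matrix (Fin 3) (Fin 3) K := !![0, 1, 0; 0, 0, 1; a, b, e]
      let B : Matrix (Fin 3) (Fin 3) K :=
        !![1, 0, τ; τ * a, 1 + τ * b, τ * e; τ * e * a, τ * a + τ * e * b, 1 + τ * b + τ * e * e]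
      have hA : A.det ≠ 0 := by simpa [A, Matrix.det_fin_three] using ha
      obtain ⟨σ, -, hσ⟩ := exists_det_ne A B S (Or.inl ⟨hA, by omega⟩)
      refine ⟨_, hcyc σ τ (fun h => hσ ?_), ?_, hnline σ τ (Or.inl (mul_ne_zero hτ0 ha))⟩
      · rw [← h]; congr 1; ext i j; fin_cases i <;> fin_cases j <;> simp [A, B] <;> ring
      · rw [hrv, hr1, mul_zero, add_zero]
        exact hlin _ _ _ hrp hτH
    · -- the lines `σ = δ - g τ` on which `r` is constant
      let g : K := r (T (T p)) / r (T p)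
      let A : Matrix (Fin 3) (Fin 3) K :=
        !![0, -g, 1; a, b, e - g; (e - g) * a, a + (e - g) * b, b + (e - g) * e]
      let B : K → Matrix (Fin 3) (Fin 3) K := fun δ => !![1, δ, 0; 0, 1, δ; δ * a, δ * b, 1 + δ * e]
      have key : ∀ δ τ : K, r p + δ * r (T p) ≠ 0 → (τ ≠ 0 ∨ δ ≠ 0) → (τ • A + B δ).det ≠ 0 →
          ∃ v, Cyc T v ∧ r v ≠ 0 ∧ ∀ ν : K, T v ≠ ν • T p := fun δ τ hδr hne hdet => by
        refine ⟨_, hcyc (δ - g * τ) τ (fun h => hdet ?_), ?_, hnline _ τ ?_⟩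
        · rw [← h]; congr 1; ext i j; fin_cases i <;> fin_cases j <;> simp [A, B] <;> ring
        · rw [hrv]
          intro h
          apply hδr
          simp only [g] at h
          field_simp at h
          linear_combination h
        · by_cases hτ : τ = 0
          · rcases hne with h | h
            · exact absurd hτ h
            · right; simpa [hτ] using h
          · exact Or.inl (mul_ne_zero hτ ha)
      by_cases hA : A.det = 0
      · obtain ⟨s, hs, hσ⟩ := exists_det_ne A (B 0) (S.erase 0) (Or.inr ⟨hA, by simp [B, Matrix.det_fin_three],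
          by rw [Finset.card_erase_of_mem hS0, hS4]; norm_num⟩)
        exact key 0 s (by simpa using hrp) (Or.inl (Finset.ne_of_mem_erase hs)) hσ
      · obtain ⟨δ, hδ0, hδH, -⟩ := exists_ne3 hK 0 (-r p / r (T p)) 0
        obtain ⟨s, -, hσ⟩ := exists_det_ne A (B δ) S (Or.inl ⟨hA, by omega⟩)
        exact key δ s (hlin _ _ _ hrp hδH) (Or.inr hδ0) hσ
  · -- `a = 0`: the lines `σ = δ - e τ`
    subst ha
    obtain ⟨δ, hδ0, hδe, hδH⟩ := exists_ne3 hK 0 (-1 / e) (-r p / r (T p))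
    have key : ∀ τ : K, (b * b * τ * τ + (2 * b + b * e * δ) * τ + (1 + e * δ - b * δ * δ)) ≠ 0 →
        r p + δ * r (T p) + τ * (r (T (T p)) - e * r (T p)) ≠ 0 →
        ∃ v, Cyc T v ∧ r v ≠ 0 ∧ ∀ ν : K, T v ≠ ν • T p := fun τ hG hH => by
      refine ⟨_, hcyc (δ - e * τ) τ (fun h => hG ?_), ?_, hnline _ τ (Or.inr ?_)⟩
      · rw [← h, Matrix.det_fin_three]; simp; ring
      · rw [hrv]; intro h; apply hH; linear_combination h
      · rw [show δ - e * τ + τ * e = δ by ring]; exact hδ0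
    have h0 : r p + δ * r (T p) ≠ 0 := hlin _ _ _ hrp hδH
    rcases eq_or_ne b 0 with rfl | hb
    · refine key 0 ?_ (by simpa using h0)
      simp only [mul_zero, zero_mul, add_zero, sub_zero, zero_add]
      rw [mul_comm]
      exact hlin 1 e δ one_ne_zero hδe
    · obtain ⟨t₁, h1, -, -⟩ := exists_ne3 hK (-(r p + δ * r (T p)) / (r (T (T p)) - e * r (T p))) 0 0
      obtain ⟨t₂, h2, h21, -⟩ := exists_ne3 hK (-(r p + δ * r (T p)) / (r (T (T p)) - e * r (T p))) t₁ 0
      obtain ⟨t₃, h3, h31, h32⟩ := exists_ne3 hK (-(r p + δ * r (T p)) / (r (T (T p)) - e * r (T p))) t₁ t₂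
      by_contra hall
      have hz : ∀ t, t ≠ -(r p + δ * r (T p)) / (r (T (T p)) - e * r (T p)) →
          b * b * t * t + (2 * b + b * e * δ) * t + (1 + e * δ - b * δ * δ) = 0 := fun t ht =>
        by_contra fun h => hall (key t h (hlin _ _ _ h0 ht))
      have e12 : b * b * (t₂ + t₁) + (2 * b + b * e * δ) = 0 := by
        refine (mul_eq_zero.1 (?_ : (t₂ - t₁) * _ = 0)).resolve_left (sub_ne_zero.2 h21)
        linear_combination hz t₂ h2 - hz t₁ h1
      have e13 : b * b * (t₃ + t₁) + (2 * b + b * e * δ) = 0 := by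
        refine (mul_eq_zero.1 (?_ : (t₃ - t₁) * _ = 0)).resolve_left (sub_ne_zero.2 h31)
        linear_combination hz t₃ h3 - hz t₁ h1
      exact h32 (mul_left_cancel₀ (mul_ne_zero hb hb) (by linear_combination e13 - e12))

end Cfsg.Agent.RegUnip
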